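import Mathlib.AlgebraicGeometry.Morphisms.Smooth
import Mathlib.AlgebraicGeometry.Morphisms.Etale
import Mathlib.RingTheory.Unramified.LocalStructure

/-! Smooth / étale near a point, in terms of standard smooth / standard étale charts. -/

universe u

open CategoryTheory AlgebraicGeometry

namespace Groth.Agent.Loc57

variable {X S : Scheme.{u}} (f : X ⟶ S)

lemma appLE_ι_comp (U : X.Opens) (V : S.Opens) (e : U ≤ f ⁻¹ᵁ V) (e') :
    (U.ι ≫ f).appLE V ⊤ e' = f.appLE V U e ≫ U.topIso.inv := by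
  simp only [Scheme.Hom.appLE, Scheme.Hom.comp_app, Scheme.Opens.ι_app, Scheme.Opens.toScheme_presheaf_map,
    Scheme.Opens.topIso_inv]
  erw [Category.assoc, Category.assoc, ← Functor.map_comp, ← Functor.map_comp]
  rfl

lemma iff_ringHom {P : MorphismProperty Scheme.{u}}
    {Q : ∀ {R S : Type u} [CommRing R] [CommRing S], (R →+* S) → Prop} [HasRingHomProperty P Q]
    (hsrc : RingHom.StableUnderCompositionWithLocalizationAwaySource Q)
    (U : X.Opens) (hU : IsAffineOpen U) (V : S.Opens) (hV : IsAffineOpen V) (e : U ≤ f ⁻¹ᵁ V) :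
    P (U.ι ≫ f) ↔ Q (f.appLE V U e).hom := by
  haveI : IsAffine (U : Scheme.{u}) := hU
  have e' : (⊤ : (U : Scheme.{u}).Opens) ≤ (U.ι ≫ f) ⁻¹ᵁ V := fun z _ => e z.2
  have hr := (HasRingHomProperty.isLocal_ringHomProperty P).respectsIso
  have hh : Q (((U.ι ≫ f).appLE V ⊤ e')).hom ↔ Q (f.appLE V U e).hom := by
    rw [appLE_ι_comp f U V e e', CommRingCat.hom_comp]
    exact hr.cancel_right_isIso (f.appLE V U e) U.topIso.inv
  rw [← hh]
  refine ⟨fun h => HasRingHomProperty.appLE P _ h ⟨V, hV⟩ ⟨⊤, isAffineOpen_top _⟩ e', fun h => ?_⟩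
  rw [HasRingHomProperty.iff_exists_appLE (P := P)
    hsrc]
  exact fun u => ⟨⟨V, hV⟩, ⟨⊤, isAffineOpen_top _⟩, trivial, e', h⟩

lemma exists_affine {P : MorphismProperty Scheme.{u}}
    (restrict : ∀ {U W : X.Opens}, U ≤ W → P (W.ι ≫ f) → P (U.ι ≫ f)) (x : X)
    (V : S.Opens) (hx : f x ∈ V) (h : ∃ W : X.Opens, x ∈ W ∧ P (W.ι ≫ f)) :
    ∃ U : X.Opens, IsAffineOpen U ∧ x ∈ U ∧ U ≤ f ⁻¹ᵁ V ∧ P (U.ι ≫ f) := by
  obtain ⟨W, hxW, hW⟩ := h
  obtain ⟨_, ⟨U, hU, rfl⟩, hxU, hs⟩ := X.isBasis_affineOpens.exists_subset_of_mem_open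
    (show x ∈ ((W ⊓ f ⁻¹ᵁ V : X.Opens) : Set X) from ⟨hxW, hx⟩) (W ⊓ f ⁻¹ᵁ V).2
  exact ⟨U, hU, hxU, fun z hz => (hs hz).2, restrict (fun z hz => (hs hz).1) hW⟩

lemma smooth_src : RingHom.StableUnderCompositionWithLocalizationAwaySource @RingHom.Smooth.{u, u} :=
  (RingHom.Smooth.stableUnderComposition.stableUnderCompositionWithLocalizationAway
    RingHom.Smooth.holdsForLocalizationAway).1

lemma etale_src : RingHom.StableUnderCompositionWithLocalizationAwaySource @RingHom.Etale.{u, u} :=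
  (RingHom.Etale.stableUnderComposition.stableUnderCompositionWithLocalizationAway
    (fun R S _ _ _ r _ => by
      show RingHom.Etale (algebraMap R S); rw [RingHom.etale_algebraMap]; exact Algebra.Etale.of_isLocalizationAway r)).1

theorem smooth_iff (x : X) (V : S.Opens) (hV : IsAffineOpen V) (hxV : f x ∈ V) :
    (∃ W : X.Opens, x ∈ W ∧ Smooth (W.ι ≫ f)) ↔
      ∃ (U : X.Opens) (_ : IsAffineOpen U) (_ : x ∈ U) (e : U ≤ f ⁻¹ᵁ V),
        (f.appLE V U e).hom.IsStandardSmooth := by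
  refine ⟨fun h => ?_, fun ⟨U, hU, hxU, e, h⟩ => ⟨U, hxU, (iff_ringHom f smooth_src U hU V hV e).2 h.smooth⟩⟩
  obtain ⟨U, hU, hxU, e, h⟩ := exists_affine f (P := @Smooth) (fun {U W} hUW (_ : Smooth (W.ι ≫ f)) =>
    show Smooth (U.ι ≫ f) by rw [← X.homOfLE_ι hUW, Category.assoc]; infer_instance) x V hxV h
  obtain ⟨s, hs, hst⟩ := RingHom.smooth_iff_locally_isStandardSmooth.1 ((iff_ringHom f smooth_src U hU V hV e).1 h)
  obtain ⟨r, hr, hxr⟩ : ∃ r ∈ s, x ∈ X.basicOpen r := by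
    have := (hU.iSup_basicOpen_eq_self_iff.2 hs).ge hxU
    rw [TopologicalSpace.Opens.mem_iSup] at this
    obtain ⟨⟨r, hr⟩, hxr⟩ := this
    exact ⟨r, hr, hxr⟩
  refine ⟨X.basicOpen r, hU.basicOpen r, hxr, (X.basicOpen_le r).trans e, ?_⟩
  haveI := hU.isLocalization_basicOpen r
  rw [show (f.appLE V (X.basicOpen r) ((X.basicOpen_le r).trans e)).hom =
    (algebraMap Γ(X, U) Γ(X, X.basicOpen r)).comp (f.appLE V U e).hom by
      rw [← f.appLE_map e (homOfLE (X.basicOpen_le r)).op]; rfl]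
  rw [← (IsLocalization.algEquiv (Submonoid.powers r) (Localization.Away r)
    Γ(X, X.basicOpen r)).toAlgHom.comp_algebraMap, RingHom.comp_assoc]
  exact RingHom.isStandardSmooth_respectsIso.1 _
    (IsLocalization.algEquiv (Submonoid.powers r) (Localization.Away r) Γ(X, X.basicOpen r)).toRingEquiv
    (hst r hr)

theorem etale_iff (x : X) (V : S.Opens) (hV : IsAffineOpen V) (hxV : f x ∈ V) :
    (∃ W : X.Opens, x ∈ W ∧ Etale (W.ι ≫ f)) ↔
      ∃ (U : X.Opens) (_ : IsAffineOpen U) (_ : x ∈ U) (e : U ≤ f ⁻¹ᵁ V),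
        letI := (f.appLE V U e).hom.toAlgebra
        Algebra.IsStandardEtale Γ(S, V) Γ(X, U) := by
  refine ⟨fun h => ?_, fun ⟨U, hU, hxU, e, h⟩ => ⟨U, hxU, (iff_ringHom f etale_src U hU V hV e).2 ?_⟩⟩
  · obtain ⟨U, hU, hxU, e, h⟩ := exists_affine f (P := @Etale) (fun {U W} hUW (_ : Etale (W.ι ≫ f)) =>
      show Etale (U.ι ≫ f) by rw [← X.homOfLE_ι hUW, Category.assoc]; infer_instance) x V hxV h
    have he := (iff_ringHom f etale_src U hU V hV e).1 h
    letI := (f.appLE V U e).hom.toAlgebra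
    haveI : Algebra.Etale Γ(S, V) Γ(X, U) := he
    obtain ⟨r, hr, hst⟩ := Algebra.IsEtaleAt.exists_isStandardEtale (R := Γ(S, V))
      (hU.primeIdealOf ⟨x, hxU⟩).asIdeal
    refine ⟨X.basicOpen r, hU.basicOpen r, (by have h1 : hU.fromSpec (hU.primeIdealOf ⟨x, hxU⟩) ∈ X.basicOpen r := (hU.fromSpec_preimage_basicOpen r).ge hr; rwa [hU.fromSpec_primeIdealOf] at h1), (X.basicOpen_le r).trans e, ?_⟩
    letI := (f.appLE V (X.basicOpen r) ((X.basicOpen_le r).trans e)).hom.toAlgebra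
    haveI : IsScalarTower Γ(S, V) Γ(X, U) Γ(X, X.basicOpen r) :=
      .of_algebraMap_eq' (by
        show (f.appLE V (X.basicOpen r) _).hom = _
        rw [← f.appLE_map e (homOfLE (X.basicOpen_le r)).op]; rfl)
    haveI := hU.isLocalization_basicOpen r
    haveI := hst
    exact Algebra.IsStandardEtale.of_equiv
      ((IsLocalization.algEquiv (Submonoid.powers r) (Localization.Away r) Γ(X, X.basicOpen r)).restrictScalars Γ(S, V))
  · letI := (f.appLE V U e).hom.toAlgebra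
    haveI : Algebra.IsStandardEtale Γ(S, V) Γ(X, U) := h
    exact inferInstanceAs (Algebra.Etale Γ(S, V) Γ(X, U))

end Groth.Agent.Loc57
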